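import Mathlib.LinearAlgebra.Matrix.ToLin
import Mathlib.LinearAlgebra.Matrix.Determinant.Basic
import Mathlib.RingTheory.Localization.Away.Basic
import Mathlib.RingTheory.Localization.AtPrime.Basic
import Mathlib.RingTheory.Localization.Integer
import Mathlib.RingTheory.Noetherian.Basic

/-!
# Spreading out a Hilbert-Burch presentation from a localization
-/

set_option autoImplicit false
noncomputable section

namespace Groth.Agent.Lib.HB62

universe u

variable {A : Type u} [CommRing A] {r : ℕ}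

/-- Signed maximal minors. -/
abbrev mnr (φ : Matrix (Fin (r + 1)) (Fin r) A) (i : Fin (r + 1)) : A :=
  (-1 : A) ^ (i : ℕ) * (φ.submatrix i.succAbove id).det

theorem map_mnr {B : Type u} [CommRing B] (f : A →+* B) (φ : Matrix (Fin (r + 1)) (Fin r) A)
    (i : Fin (r + 1)) : f (mnr φ i) = mnr (φ.map f) i := by
  rw [mnr, mnr, map_mul, map_pow, map_neg, map_one, RingHom.map_det, RingHom.mapMatrix_apply,
    Matrix.submatrix_map]

theorem mnr_smul (c : A) (φ : Matrix (Fin (r + 1)) (Fin r) A) (i : Fin (r + 1)) :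
    mnr (c • φ) i = c ^ r * mnr φ i := by
  rw [mnr, mnr, Matrix.submatrix_smul, Pi.smul_apply, Pi.smul_apply, Matrix.det_smul, Fintype.card_fin]
  ring

theorem map_lin {B : Type u} [CommRing B] (f : A →+* B) {n : ℕ} (g v : Fin n → A) :
    f (Fintype.linearCombination A g v) = Fintype.linearCombination B (fun i => f (g i)) (f ∘ v) := by
  simp [Fintype.linearCombination_apply]

theorem map_mulVec' {B : Type u} [CommRing B] (f : A →+* B) {m n : ℕ} (M : Matrix (Fin m) (Fin n) A)
    (v : Fin n → A) : f ∘ M.mulVecLin v = (M.map f).mulVecLin (f ∘ v) :=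
  funext fun i => RingHom.map_mulVec f M v i

/-- A uniform multiplier for a finitely generated submodule. -/
theorem exists_common (p : Ideal A) [p.IsPrime] {M : Type u} [AddCommGroup M] [Module A M]
    {N N' : Submodule A M} (hN : N.FG) (h : ∀ x ∈ N, ∃ s ∉ p, s • x ∈ N') :
    ∃ s ∉ p, ∀ x ∈ N, s • x ∈ N' := by
  classical
  obtain ⟨T, hT⟩ := hN
  have hmem : ∀ x ∈ T, x ∈ N := fun x hx => hT ▸ Submodule.subset_span hx
  choose s hs hsx using fun x : T => h x.1 (hmem x.1 x.2)
  refine ⟨∏ x, s x, fun hh => ?_, fun x hx => ?_⟩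
  · obtain ⟨x, -, hx⟩ := (Ideal.IsPrime.prod_mem_iff).mp hh
    exact hs x hx
  · rw [← hT] at hx
    induction hx using Submodule.span_induction with
    | mem x hx =>
      rw [← Finset.prod_erase_mul _ _ (Finset.mem_univ (⟨x, hx⟩ : T)), mul_smul]
      exact N'.smul_mem _ (hsx ⟨x, hx⟩)
    | zero => simp
    | add x y _ _ hx hy => rw [smul_add]; exact N'.add_mem hx hy
    | smul a x _ hx => rw [smul_comm]; exact N'.smul_mem _ hx

theorem exists_smul_eq_zero (p : Ideal A) [p.IsPrime] {S : Type u} [CommRing S] [Algebra A S]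
    [IsLocalization.AtPrime S p] {n : ℕ} (v : Fin n → A) (h : algebraMap A S ∘ v = 0) :
    ∃ s ∉ p, s • v = 0 := by
  choose m hm using fun i => (IsLocalization.map_eq_zero_iff p.primeCompl S (v i)).mp (congrFun h i)
  refine ⟨∏ i, (m i : A), fun hh => ?_, funext fun i => ?_⟩
  · obtain ⟨i, -, hi⟩ := (Ideal.IsPrime.prod_mem_iff).mp hh
    exact (m i).2 hi
  · rw [Pi.smul_apply, Pi.zero_apply, smul_eq_mul, ← Finset.prod_erase_mul _ _ (Finset.mem_univ i), mul_assoc,
      hm, mul_zero]

theorem exists_spread [IsNoetherianRing A] (p : Ideal A) [p.IsPrime] (S : Type u) [CommRing S] [Algebra A S]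
    [IsLocalization.AtPrime S p] (I : Ideal A) (Φ : Matrix (Fin (r + 1)) (Fin r) S)
    (h1 : Ideal.span (Set.range (mnr Φ)) = I.map (algebraMap A S)) (h2 : Function.Injective Φ.mulVecLin)
    (h3 : LinearMap.range Φ.mulVecLin = LinearMap.ker (Fintype.linearCombination S (mnr Φ))) :
    ∃ f : A, f ∉ p ∧ ∃ ψ : Matrix (Fin (r + 1)) (Fin r) A,
      ∀ (B : Type u) [CommRing B] [Algebra A B] [IsLocalization.Away f B],
        Ideal.span (Set.range (mnr (ψ.map (algebraMap A B)))) = I.map (algebraMap A B) ∧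
        Function.Injective (ψ.map (algebraMap A B)).mulVecLin ∧
        LinearMap.range (ψ.map (algebraMap A B)).mulVecLin =
          LinearMap.ker (Fintype.linearCombination B (mnr (ψ.map (algebraMap A B)))) := by
  classical
  obtain ⟨b, hb⟩ := IsLocalization.exist_integer_multiples_of_finite (S := S) p.primeCompl
    fun q : Fin (r + 1) × Fin r => Φ q.1 q.2
  choose ψ₀ hψ₀ using hb
  let ψ : Matrix (Fin (r + 1)) (Fin r) A := Matrix.of fun i j => ψ₀ (i, j)
  let c : S := algebraMap A S b
  have hc : IsUnit c := IsLocalization.map_units S b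
  have hψ : ψ.map (algebraMap A S) = c • Φ := by
    ext i j
    simp only [Matrix.map_apply, ψ, Matrix.of_apply, Matrix.smul_apply, hψ₀, c, smul_eq_mul, Algebra.smul_def]
  have hlinS : ∀ v : Fin (r + 1) → S, Fintype.linearCombination S (mnr (c • Φ)) v =
      c ^ r * Fintype.linearCombination S (mnr Φ) v := fun v => by
    simp only [Fintype.linearCombination_apply, mnr_smul, smul_eq_mul, Finset.mul_sum]
    exact Finset.sum_congr rfl fun i _ => by ring
  have hJ : (Ideal.span (Set.range (mnr ψ))).map (algebraMap A S) = I.map (algebraMap A S) := by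
    rw [Ideal.map_span, ← Set.range_comp, ← h1]
    apply le_antisymm <;> rw [Ideal.span_le] <;> rintro _ ⟨i, rfl⟩
    · simp only [Function.comp_apply, map_mnr, hψ, mnr_smul]
      exact Ideal.mul_mem_left _ _ (Ideal.subset_span ⟨i, rfl⟩)
    · obtain ⟨w, hw⟩ := (hc.pow r).exists_left_inv
      have : mnr Φ i = w * (algebraMap A S ∘ mnr ψ) i := by
        rw [Function.comp_apply, map_mnr, hψ, mnr_smul, ← mul_assoc, hw, one_mul]
      rw [this]
      exact Ideal.mul_mem_left _ _ (Ideal.subset_span ⟨i, rfl⟩)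
  let J := Ideal.span (Set.range (mnr ψ))
  let lin := Fintype.linearCombination A (mnr ψ)
  have hmem : ∀ {P Q : Ideal A}, P.map (algebraMap A S) = Q.map (algebraMap A S) →
      ∀ x ∈ P, ∃ s ∉ p, s • x ∈ Q := fun {P Q} hPQ x hx => by
    have h0 : algebraMap A S x ∈ Q.map (algebraMap A S) := hPQ ▸ Ideal.mem_map_of_mem _ hx
    obtain ⟨m, hm, hmx⟩ := (IsLocalization.algebraMap_mem_map_algebraMap_iff p.primeCompl S Q x).mp h0
    exact ⟨m, hm, hmx⟩
  obtain ⟨f₁, hf₁, hf₁'⟩ := exists_common p (IsNoetherian.noetherian I) (hmem (P := I) (Q := J) hJ.symm)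
  obtain ⟨f₂, hf₂, hf₂'⟩ := exists_common p (IsNoetherian.noetherian J) (hmem (P := J) (Q := I) hJ)
  obtain ⟨f₃, hf₃, hf₃'⟩ := exists_common p (IsNoetherian.noetherian (LinearMap.ker ψ.mulVecLin))
    (N' := ⊥) fun v hv => by
    have h0 : (algebraMap A S ∘ v) = 0 := by
      apply h2
      rw [map_zero]
      have h := map_mulVec' (algebraMap A S) ψ v
      rw [LinearMap.mem_ker.mp hv, hψ] at h
      apply hc.smul_left_cancel.mp
      rw [smul_zero, ← LinearMap.map_smul, Matrix.mulVecLin_apply, Matrix.mulVec_smul, ← Matrix.smul_mulVec,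
        ← Matrix.mulVecLin_apply, ← h]
      funext i
      simp
    obtain ⟨s, hs, hsv⟩ := exists_smul_eq_zero p v h0
    exact ⟨s, hs, by rw [hsv]; exact Submodule.zero_mem _⟩
  obtain ⟨f₄, hf₄, hf₄'⟩ := exists_common p (IsNoetherian.noetherian (LinearMap.ker lin))
    (N' := LinearMap.range ψ.mulVecLin) fun v hv => by
    have h0 : algebraMap A S ∘ v ∈ LinearMap.ker (Fintype.linearCombination S (mnr Φ)) := by
      rw [LinearMap.mem_ker]
      have h := map_lin (algebraMap A S) (mnr ψ) v
      rw [show Fintype.linearCombination A (mnr ψ) v = 0 from hv, map_zero] at h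
      simp only [map_mnr, hψ] at h
      rw [hlinS] at h
      exact (hc.pow r).mul_right_eq_zero.mp h.symm
    rw [← h3] at h0
    obtain ⟨w, hw⟩ := h0
    obtain ⟨t, ht⟩ := IsLocalization.exist_integer_multiples_of_finite (S := S) p.primeCompl w
    choose w₀ hw₀ using ht
    have h1 : algebraMap A S ∘ ψ.mulVecLin w₀ = algebraMap A S ∘ (((b : A) * (t : A)) • v) := by
      rw [map_mulVec', hψ]
      have h' : algebraMap A S ∘ w₀ = algebraMap A S t • w := funext fun i => by
        simp only [Function.comp_apply, hw₀, Pi.smul_apply, smul_eq_mul, Algebra.smul_def]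
      rw [h', LinearMap.map_smul, Matrix.mulVecLin_apply, Matrix.smul_mulVec, ← Matrix.mulVecLin_apply, hw]
      funext i
      simp [c, Algebra.smul_def, Submonoid.smul_def]
      ring
    obtain ⟨s, hs, hs0⟩ := exists_smul_eq_zero p (S := S) (ψ.mulVecLin w₀ - ((b : A) * (t : A)) • v) (by
      funext i
      have := congrFun h1 i
      simp only [Function.comp_apply] at this
      simp only [Function.comp_apply, Pi.sub_apply, map_sub, this, sub_self, Pi.zero_apply])
    refine ⟨s * ((b : A) * (t : A)), fun hh => ?_, s • w₀, ?_⟩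
    · rcases Ideal.IsPrime.mem_or_mem ‹p.IsPrime› hh with h | h
      · exact hs h
      rcases Ideal.IsPrime.mem_or_mem ‹p.IsPrime› h with h | h
      · exact b.2 h
      · exact t.2 h
    · rw [smul_sub, sub_eq_zero, ← LinearMap.map_smul, smul_smul] at hs0
      exact hs0
  obtain ⟨f₅, hf₅, hf₅'⟩ := exists_common p (IsNoetherian.noetherian (LinearMap.range ψ.mulVecLin))
    (N' := LinearMap.ker lin) fun v hv => by
    obtain ⟨w, rfl⟩ := hv
    have h0 : algebraMap A S ∘ (fun _ : Fin 1 => lin (ψ.mulVecLin w)) = 0 := funext fun _ => by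
      simp only [Function.comp_apply, lin, map_lin, map_mnr, map_mulVec', hψ, Pi.zero_apply]
      rw [hlinS]
      have : (c • Φ).mulVecLin (algebraMap A S ∘ w) ∈ LinearMap.ker (Fintype.linearCombination S (mnr Φ)) := by
        rw [← h3, Matrix.mulVecLin_apply, Matrix.smul_mulVec]
        exact Submodule.smul_mem _ _ ⟨_, rfl⟩
      rw [LinearMap.mem_ker.mp this, mul_zero]
    obtain ⟨s, hs, hs0⟩ := exists_smul_eq_zero p _ h0
    exact ⟨s, hs, by rw [LinearMap.mem_ker, LinearMap.map_smul]; exact congrFun hs0 0⟩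
  refine ⟨f₁ * f₂ * f₃ * f₄ * f₅, ?_, ψ, fun B _ _ _ => ?_⟩
  · simp only [Ideal.IsPrime.mul_mem_iff_mem_or_mem ‹p.IsPrime›]
    tauto
  let π := algebraMap A B
  have hu : IsUnit (π (f₁ * f₂ * f₃ * f₄ * f₅)) := IsLocalization.Away.algebraMap_isUnit _
  simp only [map_mul, IsUnit.mul_iff] at hu
  obtain ⟨⟨⟨⟨hu₁, hu₂⟩, hu₃⟩, hu₄⟩, hu₅⟩ := hu
  have hden : ∀ {n : ℕ} (w : Fin n → B), ∃ (d : B) (w₀ : Fin n → A), IsUnit d ∧ π ∘ w₀ = d • w := by
    intro n w
    obtain ⟨t, ht⟩ := IsLocalization.exist_integer_multiples_of_finite (S := B)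
      (Submonoid.powers (f₁ * f₂ * f₃ * f₄ * f₅)) w
    choose w₀ hw₀ using ht
    exact ⟨π t, w₀, IsLocalization.map_units B t, funext fun i => by
      simp only [Function.comp_apply, π, hw₀, Pi.smul_apply, smul_eq_mul, Algebra.smul_def]⟩
  have hzero : ∀ {n : ℕ} (v : Fin n → A), π ∘ v = 0 → ∃ d, IsUnit (π d) ∧ d • v = 0 := by
    intro n v hv
    choose m hm using fun i => (IsLocalization.map_eq_zero_iff
      (Submonoid.powers (f₁ * f₂ * f₃ * f₄ * f₅)) B (v i)).mp (congrFun hv i)
    refine ⟨∏ i, (m i : A), IsLocalization.map_units B (∏ i, m i) |> fun h => ?_, funext fun i => ?_⟩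
    · simpa [π, map_prod] using h
    · rw [Pi.smul_apply, Pi.zero_apply, smul_eq_mul, ← Finset.prod_erase_mul _ _ (Finset.mem_univ i),
        mul_assoc, hm, mul_zero]
  have hlinB : Fintype.linearCombination B (mnr (ψ.map π)) = Fintype.linearCombination B (fun i => π (mnr ψ i)) := by
    simp only [map_mnr]
  refine ⟨?_, ?_, ?_⟩
  · have hJB : J.map π = Ideal.span (Set.range (mnr (ψ.map π))) := by
      rw [Ideal.map_span, ← Set.range_comp]
      exact congrArg _ (congrArg _ (funext fun i => map_mnr π ψ i))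
    rw [← hJB]
    apply le_antisymm <;> rw [Ideal.map_le_iff_le_comap] <;> intro x hx <;> rw [Ideal.mem_comap]
    · have h := Ideal.mem_map_of_mem π (hf₂' x hx)
      rw [smul_eq_mul, map_mul] at h
      exact (Ideal.unit_mul_mem_iff_mem _ hu₂).mp h
    · have h := Ideal.mem_map_of_mem π (hf₁' x hx)
      rw [smul_eq_mul, map_mul] at h
      exact (Ideal.unit_mul_mem_iff_mem _ hu₁).mp h
  · rw [← LinearMap.ker_eq_bot, eq_bot_iff]
    intro v hv
    obtain ⟨d, v₀, hd, hv₀⟩ := hden v
    obtain ⟨e, he, he0⟩ := hzero (ψ.mulVecLin v₀) (by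
      rw [map_mulVec', hv₀, LinearMap.map_smul, LinearMap.mem_ker.mp hv, smul_zero])
    rw [← LinearMap.map_smul] at he0
    have h := hf₃' _ (LinearMap.mem_ker.mpr he0)
    rw [Submodule.mem_bot] at h
    rw [Submodule.mem_bot]
    funext i
    have h' := congrArg π (congrFun h i)
    simp only [Pi.smul_apply, smul_eq_mul, map_mul, Pi.zero_apply, map_zero] at h'
    rw [hu₃.mul_right_eq_zero, he.mul_right_eq_zero, show π (v₀ i) = d * v i from congrFun hv₀ i,
      hd.mul_right_eq_zero] at h'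
    exact h'
  · apply le_antisymm
    · rintro _ ⟨w, rfl⟩
      obtain ⟨d, w₀, hd, hw₀⟩ := hden w
      have h := congrArg π (LinearMap.mem_ker.mp (hf₅' _ ⟨w₀, rfl⟩))
      rw [LinearMap.map_smul, smul_eq_mul, map_mul, map_zero, hu₅.mul_right_eq_zero] at h
      simp only [lin, map_lin, map_mulVec', hw₀, LinearMap.map_smul, smul_eq_mul] at h
      rw [hd.mul_right_eq_zero] at h
      rwa [LinearMap.mem_ker, hlinB]
    · intro v hv
      rw [LinearMap.mem_ker, hlinB] at hv
      obtain ⟨d, v₀, hd, hv₀⟩ := hden v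
      obtain ⟨e, he, he0⟩ := hzero (fun _ : Fin 1 => lin v₀) (funext fun _ => by
        simp only [Function.comp_apply, lin, map_lin, hv₀, LinearMap.map_smul, hv, smul_zero, Pi.zero_apply])
      have h0 : lin (e • v₀) = 0 := by rw [LinearMap.map_smul]; exact congrFun he0 0
      obtain ⟨w, hw⟩ := hf₄' _ (LinearMap.mem_ker.mpr h0)
      obtain ⟨a, ha⟩ := (hu₄.mul (he.mul hd)).exists_left_inv
      refine ⟨a • (π ∘ w), ?_⟩
      rw [LinearMap.map_smul, ← map_mulVec', hw]
      funext i
      have h' : π (v₀ i) = d * v i := congrFun hv₀ i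
      simp only [Pi.smul_apply, Function.comp_apply, smul_eq_mul, map_mul]
      change a * (π f₄ * (π e * π (v₀ i))) = v i
      rw [h']
      rw [show a * (π f₄ * (π e * (d * v i))) = a * (π f₄ * (π e * d)) * v i by ring, ha, one_mul]

end Groth.Agent.Lib.HB62
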